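import Groth.Agent.Lib.GrpField.Irreducible
import Groth.Agent.Lib.AbRigid.Maximal
import Mathlib.Topology.JacobsonSpace

/-!
# Irreducible components of a Jacobson group scheme with rational closed points
-/

universe u

open CategoryTheory Limits AlgebraicGeometry MonoidalCategory CartesianMonoidalCategory MonObj TopologicalSpace

set_option linter.style.haveILetI false
set_option backward.isDefEq.respectTransparency false

namespace Groth.Agent.GrpProf

open Groth.Agent.GrpField

variable {K : Type u} [Field K] {G : Over (Spec (CommRingCat.of K))} [GrpObj G]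

/-- The point underlying a rational point. -/
noncomputable def pt {X : Over (Spec (CommRingCat.of K))} (x : 𝟙_ (Over (Spec (CommRingCat.of K))) ⟶ X) : X.left :=
  x.left (IsLocalRing.closedPoint K)

theorem eq_pt {X : Over (Spec (CommRingCat.of K))} (x : 𝟙_ (Over (Spec (CommRingCat.of K))) ⟶ X)
    (s : (𝟙_ (Over (Spec (CommRingCat.of K)))).left) : x.left s = pt x :=
  congrArg _ (Subsingleton.elim (α := Spec (CommRingCat.of K)) _ _)

theorem pt_comp {X Y : Over (Spec (CommRingCat.of K))} (x : 𝟙_ (Over (Spec (CommRingCat.of K))) ⟶ X) (f : X ⟶ Y) :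
    pt (x ≫ f) = f.left (pt x) := AbRigid.left_comp_apply x f _

/-- Right translation. -/
noncomputable def R (g : 𝟙_ (Over (Spec (CommRingCat.of K))) ⟶ G) : G ≅ G where
  hom := 𝟙 G * (toUnit G ≫ g)
  inv := 𝟙 G * (toUnit G ≫ g)⁻¹
  hom_inv_id := by simp [comp_mul, GrpObj.comp_inv, mul_inv_cancel_right]
  inv_hom_id := by simp [comp_mul, inv_mul_cancel_right]

/-- Left translation. -/
noncomputable def L (g : 𝟙_ (Over (Spec (CommRingCat.of K))) ⟶ G) : G ≅ G where
  hom := (toUnit G ≫ g) * 𝟙 G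
  inv := (toUnit G ≫ g)⁻¹ * 𝟙 G
  hom_inv_id := by simp [comp_mul, GrpObj.comp_inv, inv_mul_cancel_left]
  inv_hom_id := by simp [comp_mul, mul_inv_cancel_left]

theorem point_R (x g : 𝟙_ (Over (Spec (CommRingCat.of K))) ⟶ G) : x ≫ (R g).hom = x * g := by
  have h : x ≫ toUnit G = 𝟙 _ := toUnit_unique _ _
  simp [R, comp_mul, reassoc_of% h]

theorem point_L (x g : 𝟙_ (Over (Spec (CommRingCat.of K))) ⟶ G) : x ≫ (L g).hom = g * x := by
  have h : x ≫ toUnit G = 𝟙 _ := toUnit_unique _ _
  simp [L, comp_mul, reassoc_of% h]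

theorem pt_mul (x g : 𝟙_ (Over (Spec (CommRingCat.of K))) ⟶ G) : (R g).hom.left (pt x) = pt (x * g) := by
  rw [← pt_comp, point_R]

theorem pt_mul' (x g : 𝟙_ (Over (Spec (CommRingCat.of K))) ⟶ G) : (L g).hom.left (pt x) = pt (g * x) := by
  rw [← pt_comp, point_L]

/-- The underlying homeomorphism of an automorphism. -/
noncomputable def homeo {X Y : Over (Spec (CommRingCat.of K))} (τ : X ≅ Y) : X.left ≃ₜ Y.left :=
  Scheme.homeoOfIso ((Over.forget _).mapIso τ)

theorem homeo_apply {X Y : Over (Spec (CommRingCat.of K))} (τ : X ≅ Y) (x : X.left) : homeo τ x = τ.hom.left x := rfl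

/-- A rational point in the range of an immersion lifts. -/
theorem exists_lift_point_imm {X B : Over (Spec (CommRingCat.of K))} (i : B ⟶ X) [IsImmersion i.left]
    (x : 𝟙_ (Over (Spec (CommRingCat.of K))) ⟶ X) (hx : pt x ∈ Set.range i.left) :
    ∃ x' : 𝟙_ (Over (Spec (CommRingCat.of K))) ⟶ B, x' ≫ i = x := by
  obtain ⟨z, hz⟩ := hx
  let b : Spec (CommRingCat.of K) ⟶ X.left := x.left
  obtain ⟨w, -, -⟩ := Scheme.Pullback.exists_preimage_pullback (f := i.left) (g := b) z
    (IsLocalRing.closedPoint K) hz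
  haveI : Surjective (pullback.snd i.left b) :=
    ⟨fun s => ⟨w, Subsingleton.elim (α := Spec (CommRingCat.of K)) _ _⟩⟩
  haveI : IsImmersion (pullback.snd i.left b) := inferInstance
  haveI : IsClosedImmersion (pullback.snd i.left b) := by
    refine IsClosedImmersion.of_isPreimmersion _ ?_
    rw [(pullback.snd i.left b).surjective.range_eq]; exact isClosed_univ
  haveI : IsIso (pullback.snd i.left b) := isIso_of_isClosedImmersion_of_surjective _
  have h : (inv (pullback.snd i.left b) ≫ pullback.fst i.left b) ≫ i.left = b := by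
    rw [Category.assoc, pullback.condition, IsIso.inv_hom_id_assoc]
  refine ⟨Over.homMk (inv (pullback.snd i.left b) ≫ pullback.fst i.left b) ?_, ?_⟩
  · rw [← Over.w i, ← Category.assoc, h]; exact Over.w x
  · ext1; exact h

variable [IsAlgClosed K]

theorem component_eq {x y : G.left} (hy : y ∈ irreducibleComponent x) :
    irreducibleComponent y = irreducibleComponent x :=
  (existsUnique_component G y).unique ⟨irreducibleComponent_mem_irreducibleComponents y, mem_irreducibleComponent⟩
    ⟨irreducibleComponent_mem_irreducibleComponents x, hy⟩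

theorem component_eq_of_specializes {x y : G.left} (h : y ⤳ x) :
    irreducibleComponent x = irreducibleComponent y :=
  component_eq (h.mem_closed isClosed_irreducibleComponent mem_irreducibleComponent)

/-- Automorphisms carry components to components. -/
theorem homeo_component (e : G.left ≃ₜ G.left) (x : G.left) :
    e '' irreducibleComponent x = irreducibleComponent (e x) := by
  apply subset_antisymm
  · have hi : IsIrreducible (e '' irreducibleComponent x) :=
      isIrreducible_irreducibleComponent.image _ e.continuous.continuousOn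
    obtain ⟨Z, hZi, hZ, hZmax⟩ := exists_preirreducible _ hi.2
    have hxZ : e x ∈ Z := hZ ⟨x, mem_irreducibleComponent, rfl⟩
    have hmem : Z ∈ irreducibleComponents G.left := ⟨⟨⟨_, hxZ⟩, hZi⟩, fun u hu hle => (hZmax u hu.2 hle).le⟩
    rw [(existsUnique_component G (e x)).unique ⟨irreducibleComponent_mem_irreducibleComponents _,
      mem_irreducibleComponent⟩ ⟨hmem, hxZ⟩]
    exact hZ
  · intro y hy
    refine ⟨e.symm y, ?_, e.apply_symm_apply y⟩
    have hi : IsIrreducible (e.symm '' irreducibleComponent (e x)) :=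
      isIrreducible_irreducibleComponent.image _ e.symm.continuous.continuousOn
    obtain ⟨Z, hZi, hZ, hZmax⟩ := exists_preirreducible _ hi.2
    have hxZ : x ∈ Z := hZ ⟨e x, mem_irreducibleComponent, e.symm_apply_apply x⟩
    have hmem : Z ∈ irreducibleComponents G.left := ⟨⟨⟨_, hxZ⟩, hZi⟩, fun u hu hle => (hZmax u hu.2 hle).le⟩
    rw [(existsUnique_component G x).unique ⟨irreducibleComponent_mem_irreducibleComponents _,
      mem_irreducibleComponent⟩ ⟨hmem, hxZ⟩]
    exact hZ ⟨y, hy, rfl⟩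

/-- The neutral component. -/
noncomputable abbrev C₀ (G : Over (Spec (CommRingCat.of K))) [GrpObj G] : Set G.left :=
  irreducibleComponent (η[G].left (IsLocalRing.closedPoint K))

theorem pt_one : pt (1 : 𝟙_ (Over (Spec (CommRingCat.of K))) ⟶ G) = η[G].left (IsLocalRing.closedPoint K) := by
  rw [Hom.one_def, toUnit_unique (toUnit _) (𝟙 _), Category.id_comp]; rfl

theorem pt_inv_mem {g : 𝟙_ (Over (Spec (CommRingCat.of K))) ⟶ G} (h : pt g ∈ C₀ G) : pt g⁻¹ ∈ C₀ G := by
  have h1 : homeo (L g⁻¹) (pt g) = η[G].left (IsLocalRing.closedPoint K) := by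
    rw [homeo_apply, pt_mul', inv_mul_cancel, pt_one]
  have h2 : homeo (L g⁻¹) (η[G].left (IsLocalRing.closedPoint K)) = pt g⁻¹ := by
    rw [homeo_apply, ← pt_one, pt_mul', _root_.mul_one]
  have h3 := homeo_component (homeo (L g⁻¹)) (pt g)
  rw [h1, component_eq h] at h3
  show pt g⁻¹ ∈ irreducibleComponent _
  rw [← h3]
  exact ⟨_, mem_irreducibleComponent, h2⟩

/-- Translating by a point of the neutral component preserves every component: multiplication stays in the
component. -/
theorem mul_mem_component (q : (G ⊗ G).left) (h : (snd G G).left q ∈ C₀ G) :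
    μ[G].left q ∈ irreducibleComponent ((fst G G).left q) := by
  set z := (fst G G).left q with hz
  obtain ⟨Z₁, i₁, hc₁, hZ₁, hr₁⟩ :=
    exists_closedImmersion_range (X := G.left) (S := irreducibleComponent z) isClosed_irreducibleComponent
      isIrreducible_irreducibleComponent
  obtain ⟨Z₂, i₂, hc₂, hZ₂, hr₂⟩ :=
    exists_closedImmersion_range (X := G.left) (S := C₀ G) isClosed_irreducibleComponent
      isIrreducible_irreducibleComponent
  let B₁ := Over.mk (i₁ ≫ G.hom)
  let B₂ := Over.mk (i₂ ≫ G.hom)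
  let j₁ : B₁ ⟶ G := Over.homMk i₁ rfl
  let j₂ : B₂ ⟶ G := Over.homMk i₂ rfl
  haveI : IsClosedImmersion j₁.left := hc₁
  haveI : IsClosedImmersion j₂.left := hc₂
  haveI := geometricallyIrreducible_of_isAlgClosed (i₂ ≫ G.hom)
  haveI : IrreducibleSpace (B₁ ⊗ B₂).left :=
    inferInstanceAs (IrreducibleSpace ↥(pullback (i₁ ≫ G.hom) (i₂ ≫ G.hom)))
  obtain ⟨e₂, he₂⟩ := exists_lift_point j₂ η[G] (hr₂.ge mem_irreducibleComponent)
  let φ : B₁ ⊗ B₂ ⟶ G := (j₁ ⊗ₘ j₂) ≫ μ[G]
  have hirr : IsIrreducible (Set.range φ.left) := by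
    rw [← Set.image_univ]; exact (IrreducibleSpace.isIrreducible_univ _).image _ φ.left.continuous.continuousOn
  have hsub : irreducibleComponent z ⊆ Set.range φ.left := by
    rw [← hr₁]
    rintro _ ⟨w, rfl⟩
    refine ⟨(lift (𝟙 B₁) (toUnit B₁ ≫ e₂)).left w, ?_⟩
    rw [← AbRigid.left_comp_apply]
    have : lift (𝟙 B₁) (toUnit B₁ ≫ e₂) ≫ φ = j₁ := by
      simp only [φ, lift_map_assoc, Category.id_comp, Category.assoc, he₂]
      rw [← Hom.mul_def, ← Hom.one_def, _root_.mul_one]
    rw [this]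
    rfl
  have heq : irreducibleComponent z = closure (Set.range φ.left) :=
    subset_antisymm (hsub.trans subset_closure)
      ((irreducibleComponent_mem_irreducibleComponents z).2 hirr.closure (hsub.trans subset_closure))
  rw [heq]
  refine subset_closure ?_
  have hq : q ∈ Set.range (j₁ ⊗ₘ j₂).left := by
    rw [Over.tensorHom_left]
    erw [Scheme.Pullback.range_map]
    exact ⟨hr₁.ge (show z ∈ irreducibleComponent z from mem_irreducibleComponent), hr₂.ge h⟩
  obtain ⟨p, rfl⟩ := hq
  exact ⟨p, by rw [← AbRigid.left_comp_apply]⟩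

theorem R_mem_component (g : 𝟙_ (Over (Spec (CommRingCat.of K))) ⟶ G) (hg : pt g ∈ C₀ G) (z : G.left) :
    (R g).hom.left z ∈ irreducibleComponent z := by
  have h := mul_mem_component ((lift (𝟙 G) (toUnit G ≫ g)).left z) (by
    rw [← AbRigid.left_comp_apply, lift_snd, AbRigid.left_comp_apply, eq_pt]; exact hg)
  rw [← AbRigid.left_comp_apply, ← AbRigid.left_comp_apply, lift_fst] at h
  rw [show (R g).hom = lift (𝟙 G) (toUnit G ≫ g) ≫ μ[G] from Hom.mul_def _ _]
  exact h

/-- The union of the components meeting an open. -/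
def sat (U : Set G.left) : Set G.left := {y | (irreducibleComponent y ∩ U).Nonempty}

theorem subset_sat (U : Set G.left) : U ⊆ sat U := fun y hy => ⟨y, mem_irreducibleComponent, hy⟩

theorem sat_mono {U V : Set G.left} (h : U ⊆ V) : sat U ⊆ sat V := fun _ ⟨x, hx, hxU⟩ => ⟨x, hx, h hxU⟩

variable [JacobsonSpace G.left]
  (hrat : ∀ g : G.left, IsClosed ({g} : Set G.left) → ∃ x : 𝟙_ (Over (Spec (CommRingCat.of K))) ⟶ G, pt x = g)

omit [IsAlgClosed K] in
theorem exists_closed_specialization (y : G.left) : ∃ y', IsClosed ({y'} : Set G.left) ∧ y ⤳ y' := by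
  obtain ⟨y', hy', hc⟩ := nonempty_inter_closedPoints (Z := closure ({y} : Set G.left))
    ⟨y, subset_closure rfl⟩ isClosed_closure.isLocallyClosed
  exact ⟨y', hc, specializes_iff_mem_closure.2 hy'⟩

omit [IsAlgClosed K] in
theorem isCompact_of_closedPoints {S Q : Set G.left} (hQ : IsCompact Q) (hQS : Q ⊆ S)
    (hclosed : ∀ y ∈ S, ∀ y', IsClosed ({y'} : Set G.left) → y ⤳ y' → y' ∈ Q) : IsCompact S := by
  refine isCompact_of_finite_subcover fun W hW hcov => ?_
  obtain ⟨t, ht⟩ := hQ.elim_finite_subcover W hW (hQS.trans hcov)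
  refine ⟨t, fun y hy => ?_⟩
  obtain ⟨y', hc, hyy'⟩ := exists_closed_specialization y
  obtain ⟨i, hi, hy'i⟩ := Set.mem_iUnion₂.mp (ht (hclosed y hy y' hc hyy'))
  exact Set.mem_iUnion₂.mpr ⟨i, hi, hyy'.mem_open (hW i) hy'i⟩

theorem isCompact_mul_image {A B : Over (Spec (CommRingCat.of K))} [QuasiCompact A.hom] [QuasiCompact B.hom]
    (a : A ⟶ G) (b : B ⟶ G) : IsCompact (Set.range ((a ⊗ₘ b) ≫ μ[G]).left) := by
  haveI : CompactSpace (A ⊗ B).left := by
    show CompactSpace ↥(pullback A.hom B.hom)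
    haveI : QuasiCompact (pullback.fst A.hom B.hom ≫ A.hom) := inferInstance
    exact QuasiCompact.compactSpace_of_compactSpace (pullback.fst A.hom B.hom ≫ A.hom)
  exact isCompact_range ((a ⊗ₘ b) ≫ μ[G]).left.continuous

theorem pt_tensor_mul {A B : Over (Spec (CommRingCat.of K))} (a : A ⟶ G) (b : B ⟶ G)
    (x : 𝟙_ (Over (Spec (CommRingCat.of K))) ⟶ A) (y : 𝟙_ (Over (Spec (CommRingCat.of K))) ⟶ B) :
    pt ((x ≫ a) * (y ≫ b)) = ((a ⊗ₘ b) ≫ μ[G]).left (pt (lift x y)) := by
  rw [← pt_comp, lift_map_assoc, ← Hom.mul_def]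

include hrat in
theorem isCompact_neutral : IsCompact (C₀ G) := by
  obtain ⟨U, hU, heU, -⟩ := exists_isAffineOpen_mem_and_subset (X := G.left)
    (x := η[G].left (IsLocalRing.closedPoint K)) (U := ⊤) trivial
  obtain ⟨Z, i, hi, hZ, hr⟩ := exists_closedImmersion_range (X := G.left) (S := C₀ G)
    isClosed_irreducibleComponent isIrreducible_irreducibleComponent
  let j : (i ⁻¹ᵁ U).toScheme ⟶ G.left := (i ⁻¹ᵁ U).ι ≫ i
  haveI : IsAffine (i ⁻¹ᵁ U).toScheme := hU.preimage i
  let A := Over.mk (j ≫ G.hom)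
  let a : A ⟶ G := Over.homMk j rfl
  haveI : QuasiCompact A.hom := inferInstanceAs (QuasiCompact (j ≫ G.hom))
  have hra : Set.range a.left = C₀ G ∩ U := by
    show Set.range ((i ⁻¹ᵁ U).ι ≫ i) = _
    rw [Scheme.Hom.comp_base, TopCat.coe_comp, Set.range_comp, Scheme.Opens.range_ι, ← hr]
    exact Set.image_preimage_eq_range_inter
  haveI : IsImmersion j := inferInstance
  haveI : IsImmersion a.left := inferInstanceAs (IsImmersion j)
  refine isCompact_of_closedPoints (isCompact_mul_image a a) ?_ fun y hy y' hc hyy' => ?_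
  · rintro _ ⟨q, rfl⟩
    rw [AbRigid.left_comp_apply]
    have h1 : (fst G G).left ((a ⊗ₘ a).left q) ∈ C₀ G := by
      rw [← AbRigid.left_comp_apply, tensorHom_fst, AbRigid.left_comp_apply]; exact (hra.le ⟨_, rfl⟩).1
    have h2 := mul_mem_component ((a ⊗ₘ a).left q) (by
      rw [← AbRigid.left_comp_apply, tensorHom_snd, AbRigid.left_comp_apply]; exact (hra.le ⟨_, rfl⟩).1)
    rw [component_eq h1] at h2
    exact h2
  · obtain ⟨g, rfl⟩ := hrat y' hc
    have hg : pt g ∈ C₀ G := hyy'.mem_closed isClosed_irreducibleComponent hy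
    let inv' : G ≅ G := { hom := ι[G], inv := ι[G], hom_inv_id := by simp, inv_hom_id := by simp }
    let τ := homeo (inv' ≪≫ L g)
    have hτ : ∀ v : 𝟙_ (Over (Spec (CommRingCat.of K))) ⟶ G, τ (pt v) = pt (g * v⁻¹) := fun v => by
      rw [homeo_apply, Iso.trans_hom, AbRigid.left_comp_apply, ← pt_comp, pt_mul', Hom.inv_def]
    obtain ⟨w, hwC, hwU, hwτ⟩ := (isIrreducible_irreducibleComponent (x := η[G].left (IsLocalRing.closedPoint K))).2
      (U : Set G.left) (τ ⁻¹' U) U.2 (U.2.preimage τ.continuous)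
      ⟨_, mem_irreducibleComponent, heU⟩
      ⟨pt g, hg, by rw [Set.mem_preimage, hτ, mul_inv_cancel, pt_one]; exact heU⟩
    obtain ⟨w', hw', hwc⟩ := nonempty_inter_closedPoints
      (Z := irreducibleComponent (η[G].left (IsLocalRing.closedPoint K)) ∩ ((U : Set G.left) ∩ τ ⁻¹' U))
      ⟨w, hwC, hwU, hwτ⟩
      (isClosed_irreducibleComponent.isLocallyClosed.inter (U.2.inter (U.2.preimage τ.continuous)).isLocallyClosed)
    obtain ⟨v, rfl⟩ := hrat w' hwc
    obtain ⟨hvC, hvU, hvτ⟩ := hw'
    rw [Set.mem_preimage, hτ] at hvτ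
    have hgv : pt (g * v⁻¹) ∈ C₀ G := by
      have := R_mem_component v⁻¹ (pt_inv_mem hvC) (pt g)
      rwa [pt_mul, component_eq hg] at this
    obtain ⟨x₁, hx₁⟩ := exists_lift_point_imm a (g * v⁻¹) (hra.ge ⟨hgv, hvτ⟩)
    obtain ⟨x₂, hx₂⟩ := exists_lift_point_imm a v (hra.ge ⟨hvC, hvU⟩)
    refine ⟨pt (lift x₁ x₂), ?_⟩
    rw [← pt_tensor_mul, hx₁, hx₂, inv_mul_cancel_right]

end Groth.Agent.GrpProf
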