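import Groth.Agent.Lib.GrpProfinite3.Components
import Mathlib.AlgebraicGeometry.Limits
import Mathlib.AlgebraicGeometry.Morphisms.Integral
import Mathlib.FieldTheory.IsAlgClosed.Basic

/-!
# A profinite family of points of a group scheme lies in an affine open
-/

universe u

open CategoryTheory Limits AlgebraicGeometry MonoidalCategory CartesianMonoidalCategory MonObj TopologicalSpace

set_option linter.style.haveILetI false
set_option backward.isDefEq.respectTransparency false

namespace Groth.Agent.GrpProf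

open Groth.Agent.GrpField

variable {K : Type u} [Field K] [IsAlgClosed K] {G : Over (Spec (CommRingCat.of K))} [GrpObj G]
  [JacobsonSpace G.left]
  (hrat : ∀ g : G.left, IsClosed ({g} : Set G.left) → ∃ x : 𝟙_ (Over (Spec (CommRingCat.of K))) ⟶ G, pt x = g)

include hrat

theorem exists_translate {U : G.left.Opens} {y : G.left} (hy : y ∈ sat (U : Set G.left))
    (hc : IsClosed ({y} : Set G.left)) :
    ∃ u g : 𝟙_ (Over (Spec (CommRingCat.of K))) ⟶ G, pt u ∈ U ∧ pt g ∈ C₀ G ∧ pt (u * g) = y := by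
  obtain ⟨w, hwy, hwU⟩ := hy
  obtain ⟨w', ⟨hw'y, hw'U⟩, hwc⟩ := nonempty_inter_closedPoints (Z := irreducibleComponent y ∩ (U : Set G.left))
    ⟨w, hwy, hwU⟩ (isClosed_irreducibleComponent.isLocallyClosed.inter U.2.isLocallyClosed)
  obtain ⟨u, rfl⟩ := hrat w' hwc
  obtain ⟨v, rfl⟩ := hrat y hc
  refine ⟨u, u⁻¹ * v, hw'U, ?_, by rw [mul_inv_cancel_left]⟩
  have h := homeo_component (homeo (L u⁻¹)) (pt u)
  rw [component_eq hw'y, homeo_apply, pt_mul', inv_mul_cancel, pt_one] at h
  show _ ∈ irreducibleComponent _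
  rw [← h]
  exact ⟨pt v, mem_irreducibleComponent, by rw [homeo_apply, pt_mul']⟩

theorem mem_sat_of_specializes {U : Set G.left} {y y' : G.left} (h : y ⤳ y') : y ∈ sat U ↔ y' ∈ sat U := by
  show (irreducibleComponent y ∩ U).Nonempty ↔ (irreducibleComponent y' ∩ U).Nonempty
  rw [component_eq_of_specializes h]

theorem isOpen_sat (U : G.left.Opens) : IsOpen (sat (U : Set G.left)) := by
  rw [isOpen_iff_forall_mem_open]
  intro y hy
  obtain ⟨y', hc, hyy'⟩ := exists_closed_specialization y
  obtain ⟨u, g, hu, hg, rfl⟩ := exists_translate hrat ((mem_sat_of_specializes hrat hyy').1 hy) hc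
  refine ⟨(R g).inv.left ⁻¹' U, fun z hz => ?_, U.2.preimage (R g).inv.left.continuous, ?_⟩
  · refine ⟨_, ?_, hz⟩
    have h := R_mem_component g hg ((R g).inv.left z)
    have e : (R g).hom.left ((R g).inv.left z) = z := by
      rw [← AbRigid.left_comp_apply, Iso.inv_hom_id]; rfl
    rw [e] at h
    rw [component_eq h]
    exact mem_irreducibleComponent
  · refine hyy'.mem_open (U.2.preimage (R g).inv.left.continuous) ?_
    rw [Set.mem_preimage, ← pt_comp, ← point_R, Category.assoc, Iso.hom_inv_id, Category.comp_id]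
    exact hu

theorem isCompact_sat {U : G.left.Opens} (hU : IsAffineOpen U) : IsCompact (sat (U : Set G.left)) := by
  
  obtain ⟨Z, i, hi, hZ, hr⟩ := exists_closedImmersion_range (X := G.left) (S := C₀ G)
    isClosed_irreducibleComponent isIrreducible_irreducibleComponent
  haveI : CompactSpace Z := by
    refine isCompact_univ_iff.1 (i.isEmbedding.isCompact_iff.2 ?_)
    rw [Set.image_univ, hr]; exact isCompact_neutral hrat
  let A := Over.mk (U.ι ≫ G.hom)
  let B := Over.mk (i ≫ G.hom)
  let a : A ⟶ G := Over.homMk U.ι rfl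
  let b : B ⟶ G := Over.homMk i rfl
  haveI : CompactSpace U.toScheme := isCompact_iff_compactSpace.1 hU.isCompact
  haveI : QuasiCompact A.hom := inferInstanceAs (QuasiCompact (U.ι ≫ G.hom))
  haveI : QuasiCompact B.hom := inferInstanceAs (QuasiCompact (i ≫ G.hom))
  haveI : IsImmersion a.left := inferInstanceAs (IsImmersion U.ι)
  haveI : IsImmersion b.left := inferInstanceAs (IsImmersion i)
  refine isCompact_of_closedPoints (isCompact_mul_image a b) ?_ fun y hy y' hc hyy' => ?_
  · rintro _ ⟨q, rfl⟩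
    rw [AbRigid.left_comp_apply]
    have h1 : (fst G G).left ((a ⊗ₘ b).left q) ∈ U := by
      rw [← AbRigid.left_comp_apply, tensorHom_fst, AbRigid.left_comp_apply]
      exact ((fst A B).left q).2
    have h2 := mul_mem_component ((a ⊗ₘ b).left q) (by
      rw [← AbRigid.left_comp_apply, tensorHom_snd, AbRigid.left_comp_apply]; exact hr.le ⟨_, rfl⟩)
    exact ⟨_, (component_eq h2).symm ▸ mem_irreducibleComponent, h1⟩
  · obtain ⟨u, g, hu, hg, rfl⟩ := exists_translate hrat ((mem_sat_of_specializes hrat hyy').1 hy) hc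
    obtain ⟨x₁, hx₁⟩ := exists_lift_point_imm a u (by
      show pt u ∈ Set.range U.ι
      rw [Scheme.Opens.range_ι]; exact hu)
    obtain ⟨x₂, hx₂⟩ := exists_lift_point_imm b g (hr.ge hg)
    exact ⟨pt (lift x₁ x₂), by rw [← pt_tensor_mul, hx₁, hx₂]⟩

theorem isClosed_sat {U : G.left.Opens} (hU : IsAffineOpen U) : IsClosed (sat (U : Set G.left)) := by
  haveI := AbRigid.isSeparated_of_grpObj G
  haveI : G.left.IsSeparated := ⟨by
    rw [← Limits.terminal.comp_from G.hom]; infer_instance⟩
  let W : G.left.Opens := ⟨_, isOpen_sat hrat U⟩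
  haveI : CompactSpace W.toScheme := isCompact_iff_compactSpace.1 (isCompact_sat hrat hU)
  haveI : QuasiCompact W.ι := quasiCompact_of_compactSpace W.ι
  have hs : SpecializingMap W.ι := fun a b hab => by
    have hb : b ∈ sat (U : Set G.left) := (mem_sat_of_specializes hrat hab).1 a.2
    exact ⟨⟨b, hb⟩, W.ι.isEmbedding.isInducing.specializes_iff.1 hab, rfl⟩
  have := ((AlgebraicGeometry.isClosedMap_iff_specializingMap W.ι).2 hs) Set.univ isClosed_univ
  rwa [Set.image_univ, Scheme.Opens.range_ι] at this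

omit hrat in
theorem isAffineOpen_inf_of_isClosed {X : Scheme.{u}} {U W : X.Opens} (hU : IsAffineOpen U)
    (hW : IsClosed (W : Set X)) : IsAffineOpen (W ⊓ U) := by
  haveI : IsClosedImmersion W.ι := IsClosedImmersion.of_isPreimmersion _ (by rw [Scheme.Opens.range_ι]; exact hW)
  have h := (hU.preimage W.ι).image_of_isOpenImmersion W.ι
  rwa [Scheme.Hom.image_preimage_eq_opensRange_inf, Scheme.Opens.opensRange_ι] at h

/-- An affine open meeting the components of finitely many affine opens. -/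
theorem exists_affine_meeting (s : Finset G.left.affineOpens) :
    ∃ V : G.left.Opens, IsAffineOpen V ∧ ∀ U ∈ s, (U.1 : Set G.left) ⊆ sat (V : Set G.left) := by
  classical
  induction s using Finset.induction_on with
  | empty => exact ⟨⊥, isAffineOpen_bot _, fun _ h => absurd h (Finset.notMem_empty _)⟩
  | insert U s _ ih =>
    obtain ⟨V, hV, hs⟩ := ih
    let W : G.left.Opens := ⟨(sat (V : Set G.left))ᶜ, (isClosed_sat hrat hV).isOpen_compl⟩
    have hW : IsClosed (W : Set G.left) := (isOpen_sat hrat V).isClosed_compl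
    refine ⟨V ⊔ (W ⊓ U.1), hV.sup_of_disjoint (isAffineOpen_inf_of_isClosed U.2 hW) ?_, fun U' hU' => ?_⟩
    · rw [disjoint_iff]
      ext x
      simp only [Opens.coe_inf, Opens.coe_bot, Set.mem_inter_iff, Set.mem_empty_iff_false, iff_false]
      exact fun ⟨hx, hx', _⟩ => hx' (subset_sat _ hx)
    · rcases Finset.mem_insert.1 hU' with rfl | hU'
      · intro x hx
        by_cases h : x ∈ sat (V : Set G.left)
        · exact sat_mono (fun z hz => Or.inl hz) h
        · exact subset_sat _ (Or.inr ⟨h, hx⟩)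
      · exact (hs U' hU').trans (sat_mono fun z hz => Or.inl hz)

theorem exists_affine_superset {T : Over (Spec (CommRingCat.of K))} [CompactSpace T.left] [IsIntegralHom T.hom]
    (hT : ∀ t : T.left, ∃ x : 𝟙_ (Over (Spec (CommRingCat.of K))) ⟶ T, pt x = t) (f : T ⟶ G) :
    ∃ U : G.left.Opens, IsAffineOpen U ∧ Set.range f.left ⊆ (U : Set G.left) := by
  classical
  obtain ⟨s, hs⟩ := (isCompact_range f.left.continuous).elim_finite_subcover
    (fun U : G.left.affineOpens => (U.1 : Set G.left)) (fun U => U.1.2) (fun x _ => by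
      obtain ⟨U, hU, hxU, -⟩ := exists_isAffineOpen_mem_and_subset (X := G.left) (x := x) (U := ⊤) trivial
      exact Set.mem_iUnion.2 ⟨⟨U, hU⟩, hxU⟩)
  obtain ⟨V, hV, hsV⟩ := exists_affine_meeting hrat s
  let Ψ : T ⊗ G ⟶ G := (fst T G ≫ f) * snd T G
  haveI : IsIntegralHom (snd T G).left := inferInstanceAs (IsIntegralHom (pullback.snd T.hom G.hom))
  let C : Set G.left := (snd T G).left '' (Ψ.left ⁻¹' (V : Set G.left)ᶜ)
  have hC : IsClosed C := (snd T G).left.isClosedMap _ (V.2.isClosed_compl.preimage Ψ.left.continuous)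
  have key : ∀ (q : (T ⊗ G).left) (t : 𝟙_ (Over (Spec (CommRingCat.of K))) ⟶ T), pt t = (fst T G).left q →
      Ψ.left q = (L (t ≫ f)).hom.left ((snd T G).left q) := by
    intro q t ht
    obtain ⟨p, hp⟩ : q ∈ Set.range (t ⊗ₘ 𝟙 G).left := by
      rw [Over.tensorHom_left]
      erw [Scheme.Pullback.range_map]
      exact ⟨⟨IsLocalRing.closedPoint K, ht⟩, ⟨_, rfl⟩⟩
    have hid : snd (𝟙_ _) G ≫ lift (toUnit G) (𝟙 G) = 𝟙 (𝟙_ _ ⊗ G) := by
      apply CartesianMonoidalCategory.hom_ext
      · exact toUnit_unique _ _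
      · simp
    have hw : (lift (toUnit G ≫ t) (𝟙 G)).left ((snd (𝟙_ _) G).left p) = q := by
      rw [← hp, ← AbRigid.left_comp_apply]
      have h2 : snd (𝟙_ _) G ≫ lift (toUnit G ≫ t) (𝟙 G) = t ⊗ₘ 𝟙 G := by
        rw [← Category.id_comp (t ⊗ₘ 𝟙 G), ← hid, Category.assoc, lift_map, Category.id_comp]
      rw [h2]
    rw [← hw, ← AbRigid.left_comp_apply, ← AbRigid.left_comp_apply (lift (toUnit G ≫ t) (𝟙 G)) (snd T G), lift_snd]
    have : lift (toUnit G ≫ t) (𝟙 G) ≫ Ψ = (L (t ≫ f)).hom := by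
      simp [Ψ, L, comp_mul]
    rw [this]
    rfl
  have hgen := isIrreducible_irreducibleComponent.isGenericPoint_genericPoint
    (isClosed_irreducibleComponent (x := η[G].left (IsLocalRing.closedPoint K)))
  set η₀ := (isIrreducible_irreducibleComponent (x := η[G].left (IsLocalRing.closedPoint K))).genericPoint
  have hη : η₀ ∉ C := by
    rintro ⟨q, hq, hqe⟩
    obtain ⟨t, ht⟩ := hT ((fst T G).left q)
    apply hq
    rw [key q t ht, hqe]
    have hz : pt (t ≫ f) ∈ sat (V : Set G.left) := by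
      obtain ⟨U, hU, hzU⟩ := Set.mem_iUnion₂.1 (hs ⟨pt t, (pt_comp t f).symm⟩)
      exact hsV U hU hzU
    let τ := homeo (L (t ≫ f))
    have h1 : τ (η[G].left (IsLocalRing.closedPoint K)) = pt (t ≫ f) := by
      rw [homeo_apply, ← pt_one, pt_mul', _root_.mul_one]
    have h2 : IsGenericPoint (τ η₀) (irreducibleComponent (pt (t ≫ f))) := by
      have := hgen.image τ.continuous
      rwa [homeo_component, h1, isClosed_irreducibleComponent.closure_eq] at this
    obtain ⟨w, hw, hwV⟩ := hz
    exact (h2.specializes hw).mem_open V.2 hwV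
  obtain ⟨g', ⟨hg'C, hg'0⟩, hg'c⟩ := nonempty_inter_closedPoints
    (Z := Cᶜ ∩ C₀ G) ⟨η₀, hη, hgen.mem⟩
    (hC.isOpen_compl.isLocallyClosed.inter isClosed_irreducibleComponent.isLocallyClosed)
  obtain ⟨g, rfl⟩ := hrat g' hg'c
  refine ⟨(R g).hom.left ⁻¹ᵁ V, ?_, ?_⟩
  · haveI : IsIso (R g).hom.left := inferInstanceAs (IsIso ((Over.forget _).map (R g).hom))
    exact hV.preimage (R g).hom.left
  · rintro _ ⟨s', rfl⟩
    obtain ⟨t, rfl⟩ := hT s'
    by_contra h
    refine hg'C ⟨pt (lift t g), ?_, by rw [← pt_comp, lift_snd]⟩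
    rw [Set.mem_preimage, ← pt_comp]
    intro h'
    apply h
    show (R g).hom.left (f.left (pt t)) ∈ V
    rw [← pt_comp, pt_mul]
    have : lift t g ≫ Ψ = (t ≫ f) * g := by simp [Ψ, comp_mul]
    rw [← this]
    exact h'

end Groth.Agent.GrpProf
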